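import Cfsg.Agent.BPres.SLn

/-!
One element of `SL₂` which, with its image under the exchange of the two coordinates, generates.
-/

set_option autoImplicit false
set_option linter.style.haveILetI false

namespace CfsgLib.SLShort

open Matrix
open CfsgLib.An (SLn xt xt_coe xt_eq)
open CfsgLib.SL2Pres (hSL exists_generator adjoin_sq hSL_val)
open CfsgLib.SL3Pres (all_of_stable)

universe v

variable {F : Type v} [Field F]

/-- The exchange of the two coordinates. -/
def flip2 : SLn 2 F →* SLn 2 F where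
  toFun A := ⟨!![A.1 1 1, A.1 1 0; A.1 0 1, A.1 0 0], by
    have h := A.2
    rw [Matrix.det_fin_two] at h
    rw [Matrix.det_fin_two_of]
    linear_combination h⟩
  map_one' := Subtype.ext (by
    ext i j; fin_cases i <;> fin_cases j <;> simp)
  map_mul' A B := Subtype.ext (by
    show _ = (!![A.1 1 1, A.1 1 0; A.1 0 1, A.1 0 0] : Matrix (Fin 2) (Fin 2) F) *
      !![B.1 1 1, B.1 1 0; B.1 0 1, B.1 0 0]
    ext i j; fin_cases i <;> fin_cases j <;>
      simp [Matrix.mul_apply, Fin.sum_univ_two] <;> ring)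

theorem flip2_val (A : SLn 2 F) : (flip2 A).1 = !![A.1 1 1, A.1 1 0; A.1 0 1, A.1 0 0] := rfl

theorem flip2_flip2 (A : SLn 2 F) : flip2 (flip2 A) = A :=
  Subtype.ext (by ext i j; fin_cases i <;> fin_cases j <;> simp [flip2_val])

theorem flip2_xt01 (t : F) : flip2 (xt 0 1 t : SLn 2 F) = xt 1 0 t := by
  refine Subtype.ext ?_
  rw [flip2_val, xt_coe (by decide), xt_coe (by decide)]
  ext i j; fin_cases i <;> fin_cases j <;> simp [transvection]

theorem flip2_xt10 (t : F) : flip2 (xt 1 0 t : SLn 2 F) = xt 0 1 t := by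
  rw [← flip2_xt01, flip2_flip2]

theorem flip2_h (g : Fˣ) : flip2 (hSL g) = (hSL g)⁻¹ := by
  rw [← map_inv]
  refine Subtype.ext ?_
  rw [flip2_val, hSL_val, hSL_val]
  ext i j; fin_cases i <;> fin_cases j <;> simp

/-- A flip-invariant subgroup with all upper transvections is everything. -/
theorem eq_top_of_upper {K : Subgroup (SLn 2 F)} (hK : ∀ A ∈ K, flip2 A ∈ K)
    (h : ∀ t, (xt 0 1 t : SLn 2 F) ∈ K) : K = ⊤ := by
  rw [eq_top_iff]
  rintro A -
  refine BPres.xt_induction (n := 2) le_rfl (fun A => A ∈ K) (fun i j hij t => ?_) (fun _ _ => K.mul_mem) A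
  fin_cases i <;> fin_cases j <;> try exact absurd rfl hij
  · exact h t
  · show (xt 1 0 t : SLn 2 F) ∈ K
    rw [← flip2_xt01]
    exact hK _ (h t)

theorem flip_stable (y : SLn 2 F) :
    ∀ A ∈ Subgroup.closure ({y, flip2 y} : Set (SLn 2 F)),
      flip2 A ∈ Subgroup.closure ({y, flip2 y} : Set (SLn 2 F)) := by
  intro A hA
  induction hA using Subgroup.closure_induction with
  | mem x hx =>
    rcases hx with rfl | rfl
    · exact Subgroup.subset_closure (Or.inr rfl)
    · rw [flip2_flip2]; exact Subgroup.subset_closure (Or.inl rfl)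
  | one => rw [map_one]; exact Subgroup.one_mem _
  | mul a b _ _ ha hb => rw [map_mul]; exact Subgroup.mul_mem _ ha hb
  | inv a _ ha => rw [map_inv]; exact Subgroup.inv_mem _ ha

variable [Fintype F]

/-- Squares are not closed under adding one, with an exception excluded. -/
theorem exists_square_shift (p : ℕ) [Fact p.Prime] [CharP F p] (hp : p ≠ 2)
    (hq : p < Fintype.card F) :
    ∃ b : F, b ≠ 0 ∧ b ^ 2 ≠ -1 ∧ ¬ IsSquare (1 - b ^ 2) := by
  classical
  have h2 : ringChar F ≠ 2 := by rw [ringChar.eq F p]; exact hp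
  obtain ⟨ν, hν⟩ := FiniteField.exists_nonsquare h2
  have hp3 : 3 ≤ p := by have := (Fact.out : p.Prime).two_le; omega
  have h9 : 5 < Fintype.card F := by
    obtain ⟨m, -, hm⟩ := FiniteField.card F p
    rcases (show (m : ℕ) = 1 ∨ 2 ≤ (m : ℕ) by have := m.pos; omega) with h | h
    · rw [h, pow_one] at hm; omega
    · calc 5 < 3 * 3 := by norm_num
        _ ≤ p ^ 2 := by rw [sq]; exact Nat.mul_le_mul hp3 hp3
        _ ≤ Fintype.card F := hm ▸ Nat.pow_le_pow_right (by omega) h
  by_contra hcon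
  push_neg at hcon
  have hsh : ∀ b : F, b ^ 2 ≠ -1 → IsSquare (1 - b ^ 2) := fun b h => by
    by_cases hb : b = 0
    · subst hb; simp
    · exact hcon b hb h
  by_cases hneg : IsSquare (-1 : F)
  · obtain ⟨i, hi⟩ := hneg
    have hadd : ∀ a b : F, IsSquare a → IsSquare b → a ≠ b → IsSquare (a + b) := by
      intro a b ha hb hab
      obtain ⟨s, rfl⟩ := ha
      obtain ⟨t, rfl⟩ := hb
      by_cases hs : s = 0
      · subst hs; exact ⟨t, by ring⟩
      have hss : s * s⁻¹ = 1 := mul_inv_cancel₀ hs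
      obtain ⟨r, hr⟩ := hsh (i * t * s⁻¹) (by
        intro e
        apply hab
        linear_combination (s * s) * e + (t * t * (s * s⁻¹) ^ 2) * hi +
          (t * t * (s * s⁻¹ + 1)) * hss)
      refine ⟨s * r, ?_⟩
      linear_combination (s * s) * hr + (-(t * t) * (s * s⁻¹) ^ 2) * hi -
        (t * t * (s * s⁻¹ + 1)) * hss
    obtain ⟨x, hx⟩ : ∃ x : F, x ∉ ({0, 1, -1, i, -i} : Finset F) := by
      by_contra h
      push_neg at h
      have h' : Finset.univ ⊆ ({0, 1, -1, i, -i} : Finset F) := fun x _ => h x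
      have := (Finset.card_le_card h').trans Finset.card_le_five
      rw [Finset.card_univ] at this
      omega
    simp only [Finset.mem_insert, Finset.mem_singleton, not_or] at hx
    obtain ⟨hx0, hx1, hx1', hxi, hxi'⟩ := hx
    have hb0 : x * x ≠ 0 := mul_ne_zero hx0 hx0
    have hb1 : x * x ≠ 1 := fun e => by
      rcases mul_self_eq_one_iff.1 e with h | h
      · exact hx1 h
      · exact hx1' h
    have hb2 : x * x ≠ -1 := fun e => by
      rw [hi] at e
      rcases mul_self_eq_mul_self_iff.1 e with h | h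
      · exact hxi h
      · exact hxi' h
    have s1 : IsSquare (x * x + 1) := hadd _ _ ⟨x, rfl⟩ ⟨1, by ring⟩ hb1
    have s2 : IsSquare (x * x + 1 + 1) := hadd _ _ s1 ⟨1, by ring⟩ fun e => hb0 (by linear_combination e)
    have s3 : IsSquare ((x * x + 1 + 1) + -(x * x)) :=
      hadd _ _ s2 ⟨i * x, by linear_combination (x * x) * hi⟩ fun e => hb2 (by
        have h2' : (2 : F) ≠ 0 := Ring.two_ne_zero h2
        apply mul_left_cancel₀ h2'
        linear_combination e)
    have htwo : IsSquare (2 : F) := by convert s3 using 1; ring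
    have hall : ∀ a b : F, IsSquare a → IsSquare b → IsSquare (a + b) := fun a b ha hb => by
      by_cases hab : a = b
      · subst hab; rw [← two_mul]; exact htwo.mul ha
      · exact hadd a b ha hb hab
    obtain ⟨a, b, hab⟩ := FiniteField.exists_root_sum_quadratic
      (Polynomial.degree_X_pow 2) (Polynomial.degree_X_pow_sub_C (show 0 < 2 by norm_num) ν)
      (FiniteField.odd_card_of_char_ne_two h2)
    simp only [Polynomial.eval_pow, Polynomial.eval_X, Polynomial.eval_sub, Polynomial.eval_C] at hab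
    exact hν (by
      rw [show ν = a ^ 2 + b ^ 2 by linear_combination -hab]
      exact hall _ _ ⟨a, sq a⟩ ⟨b, sq b⟩)
  · obtain ⟨b, hb⟩ : ∃ b : F, b ∉ ({0, 1, -1} : Finset F) := by
      by_contra h
      push_neg at h
      have h' : Finset.univ ⊆ ({0, 1, -1} : Finset F) := fun x _ => h x
      have := (Finset.card_le_card h').trans Finset.card_le_three
      rw [Finset.card_univ] at this
      omega
    simp only [Finset.mem_insert, Finset.mem_singleton, not_or] at hb
    obtain ⟨hb0, hb1, hb1'⟩ := hb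
    obtain ⟨r, hr⟩ := hsh b fun e => hneg ⟨b, by rw [← e, sq]⟩
    obtain ⟨s, hs⟩ := hsh b⁻¹ fun e => hneg ⟨b⁻¹, by rw [← e, sq]⟩
    have hbb : b * b⁻¹ = 1 := mul_inv_cancel₀ hb0
    have hs0 : s ≠ 0 := by
      rintro rfl
      have e : b * b = 1 := by linear_combination (b * b) * hs + (b * b⁻¹ + 1) * hbb
      rcases mul_self_eq_one_iff.1 e with h | h
      · exact hb1 h
      · exact hb1' h
    refine hneg ⟨r / (b * s), ?_⟩
    field_simp
    linear_combination hr + (b * b) * hs + (b * b⁻¹ + 1) * hbb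

theorem exists_params (p : ℕ) [Fact p.Prime] [CharP F p] (hq : p < Fintype.card F) {g : F}
    (hg0 : g ≠ 0) (hgen : ∀ t : F, t ≠ 0 → ∃ k : ℕ, t = g ^ k) :
    ∃ a b : F, b ≠ 0 ∧ b ^ 2 ≠ -1 ∧ a ^ 2 * (1 - b ^ 2) = g := by
  by_cases hp : p = 2
  · subst hp
    have hc : ringChar F = 2 := ringChar.eq F 2
    obtain ⟨b, hb⟩ := FiniteField.isSquare_of_char_two hc (1 - g)
    refine ⟨1, b, ?_, ?_, by rw [sq, sq, ← hb]; ring⟩
    · rintro rfl
      classical
      have hg1 : g = 1 := by linear_combination -hb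
      have : ∀ x : F, x ∈ ({0, 1} : Finset F) := fun x => by
        by_cases hx : x = 0
        · simp [hx]
        · obtain ⟨k, rfl⟩ := hgen x hx
          simp [hg1]
      have h := Finset.card_le_card (show Finset.univ ⊆ ({0, 1} : Finset F) from fun x _ => this x)
      rw [Finset.card_univ] at h
      have := Finset.card_le_two (a := (0 : F)) (b := 1)
      omega
    · intro e
      apply hg0
      rw [sq, ← hb] at e
      linear_combination -e + CharTwo.two_eq_zero (R := F)
  · have h2 : ringChar F ≠ 2 := by rw [ringChar.eq F p]; exact hp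
    obtain ⟨b, hb0, hb1, hns⟩ := exists_square_shift p hp hq
    have hne : 1 - b ^ 2 ≠ 0 := fun e => hns (e ▸ ⟨0, by simp⟩)
    obtain ⟨k, hk⟩ := hgen _ hne
    have hgns : ¬ IsSquare g := by
      rintro ⟨s, hs⟩
      exact hns ⟨s ^ k, by rw [hk, hs, mul_pow]⟩
    obtain ⟨m, hm⟩ : Odd k := by
      rw [← Nat.not_even_iff_odd]
      rintro ⟨m, rfl⟩
      exact hns ⟨g ^ m, by rw [hk, pow_add]⟩
    refine ⟨(g ^ m)⁻¹, b, hb0, hb1, ?_⟩
    rw [hk, hm, pow_succ g, mul_comm 2 m, pow_mul, inv_pow, ← mul_assoc, inv_mul_cancel₀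
      (pow_ne_zero _ (pow_ne_zero _ hg0)), one_mul]

/-- Fields of prime order: one transvection. -/
theorem exists_flip_gen_prime (p : ℕ) [Fact p.Prime] [CharP F p] (hq : Fintype.card F = p) :
    ∃ y : SLn 2 F, Subgroup.closure ({y, flip2 y} : Set (SLn 2 F)) = ⊤ := by
  refine ⟨xt 0 1 1, eq_top_of_upper (flip_stable _) fun t => ?_⟩
  obtain ⟨z, rfl⟩ := ((ZMod.castHom (dvd_refl p) F).injective.bijective_of_nat_card_le (by
    rw [Nat.card_eq_fintype_card, Nat.card_eq_fintype_card, ZMod.card, hq])).2 t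
  obtain ⟨k, rfl⟩ := ZMod.natCast_zmod_surjective z
  rw [map_natCast]
  induction k with
  | zero => rw [Nat.cast_zero, An.xt_zero]; exact Subgroup.one_mem _
  | succ k ih =>
    rw [Nat.cast_succ, An.xt_add (by decide)]
    exact Subgroup.mul_mem _ ih (Subgroup.subset_closure (Or.inl rfl))

theorem exists_flip_gen : ∃ y : SLn 2 F, Subgroup.closure ({y, flip2 y} : Set (SLn 2 F)) = ⊤ := by
  classical
  obtain ⟨p, hcp⟩ := CharP.exists F
  haveI := hcp
  haveI : Fact p.Prime := ⟨CharP.char_is_prime F p⟩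
  letI := ZMod.algebra F p
  obtain ⟨m, -, hm⟩ := FiniteField.card F p
  rcases eq_or_ne (Fintype.card F) p with hp | hp
  · exact exists_flip_gen_prime p hp
  have hq : p < Fintype.card F := lt_of_le_of_ne (hm ▸ Nat.le_self_pow m.ne_zero p) (Ne.symm hp)
  obtain ⟨g, hg0, hgo, hgen⟩ := exists_generator (F := F)
  have hx : Algebra.adjoin (ZMod p) {g ^ 2} = ⊤ := adjoin_sq hm hgo
  obtain ⟨a, b, hb0, hb1, hab⟩ := exists_params p hq hg0 hgen
  have ha : a ≠ 0 := by rintro rfl; simp at hab; exact hg0 hab.symm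
  have hγ : 1 - b ^ 2 ≠ 0 := fun e => hg0 (by rw [← hab, e, mul_zero])
  set d := (a * (1 - b ^ 2))⁻¹ with hd
  let y : SLn 2 F := ⟨!![a, b * d; b * a, d], by
    rw [Matrix.det_fin_two_of, hd]
    field_simp⟩
  refine ⟨y, ?_⟩
  set K := Subgroup.closure ({y, flip2 y} : Set (SLn 2 F))
  refine eq_top_of_upper (flip_stable y) ?_
  set gu : Fˣ := Units.mk0 g hg0
  have hh : hSL gu ∈ K := by
    have e : (flip2 y)⁻¹ * y = hSL gu := by
      rw [inv_mul_eq_iff_eq_mul]
      refine Subtype.ext ?_
      show y.1 = (flip2 y).1 * (hSL gu).1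
      rw [flip2_val, hSL_val]
      show !![a, b * d; b * a, d] = !![d, b * a; b * d, a] * _
      rw [Matrix.mul_fin_two]
      have e1 : a = d * g := by rw [hd, ← hab]; field_simp
      have e2 : d = a * g⁻¹ := by rw [e1]; field_simp
      ext i j
      fin_cases i <;> fin_cases j <;> simp [gu] <;>
        first
          | linear_combination e1
          | linear_combination e2
          | linear_combination b * e2
          | linear_combination b * e1
    rw [← e]
    exact K.mul_mem (K.inv_mem (Subgroup.subset_closure (Or.inr rfl))) (Subgroup.subset_closure (Or.inl rfl))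
  obtain ⟨k, hk⟩ := hgen b hb0
  set W := y * hSL (Units.mk0 b hb0) * y⁻¹ with hW
  have hWK : W ∈ K := by
    have e : Units.mk0 b hb0 = gu ^ k := Units.ext (by simp [gu, hk])
    have hy : y ∈ K := Subgroup.subset_closure (Or.inl rfl)
    rw [hW, e, map_pow]
    exact K.mul_mem (K.mul_mem hy (K.pow_mem hh k)) (K.inv_mem hy)
  have h00 : W.1 0 0 = 0 := by
    rw [hW, Matrix.SpecialLinearGroup.coe_mul, Matrix.SpecialLinearGroup.coe_mul,
      Matrix.SpecialLinearGroup.coe_inv, hSL_val]
    simp [y, Matrix.adjugate_fin_two_of, Matrix.mul_apply, Fin.sum_univ_two]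
    field_simp
    ring
  have h11 : W.1 1 1 = b + b⁻¹ := by
    have htr : W.1.trace = b + b⁻¹ := by
      rw [hW, Matrix.SpecialLinearGroup.coe_mul, Matrix.SpecialLinearGroup.coe_mul, Matrix.trace_mul_comm,
        ← Matrix.mul_assoc, ← Matrix.SpecialLinearGroup.coe_mul, inv_mul_cancel,
        Matrix.SpecialLinearGroup.coe_one, Matrix.one_mul, hSL_val, Matrix.trace_fin_two_of]
      simp
    rw [Matrix.trace_fin_two, h00, zero_add] at htr
    exact htr
  have hdet := W.2
  rw [Matrix.det_fin_two, h00, zero_mul, zero_sub] at hdet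
  set c := g⁻¹ * W.1 1 0 * W.1 1 1 * (g - g⁻¹) with hc
  have hc0 : c ≠ 0 := by
    have hz : W.1 1 0 ≠ 0 := fun e => by rw [e, mul_zero, neg_zero] at hdet; exact zero_ne_one hdet
    have hw : W.1 1 1 ≠ 0 := by
      rw [h11]
      intro e
      field_simp at e
      exact hb1 (by linear_combination e)
    have hg2 : g - g⁻¹ ≠ 0 := by
      intro e
      field_simp at e
      have h2 : orderOf g ∣ 2 := orderOf_dvd_of_pow_eq_one (by linear_combination e)
      rw [hgo] at h2
      have h3 := Nat.le_of_dvd (by norm_num) h2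
      have := (Fact.out : p.Prime).two_le
      have hp2 : p = 2 := by omega
      have hdvd : 2 ∣ Fintype.card F := by rw [hm, hp2]; exact dvd_pow_self _ m.ne_zero
      omega
    exact mul_ne_zero (mul_ne_zero (mul_ne_zero (inv_ne_zero hg0) hz) hw) hg2
  have hv : (xt 1 0 c : SLn 2 F) ∈ K := by
    have e : (xt 1 0 c : SLn 2 F) = hSL gu * (W * hSL gu * W⁻¹) := by
      refine Subtype.ext ?_
      rw [xt_coe (by decide)]
      show _ = (hSL gu).1 * (W.1 * (hSL gu).1 * (W⁻¹).1)
      rw [Matrix.SpecialLinearGroup.coe_inv, hSL_val, Matrix.adjugate_fin_two, h00]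
      ext i j
      fin_cases i <;> fin_cases j <;>
        simp [transvection, Matrix.mul_apply, Fin.sum_univ_two, gu, hc, h00] <;> (try field_simp) <;>
        first
          | linear_combination hdet
          | linear_combination -hdet
          | ring
    rw [e]
    exact K.mul_mem hh (K.mul_mem (K.mul_mem hWK hh) (K.inv_mem hWK))
  have hu : (xt 0 1 c : SLn 2 F) ∈ K := by rw [← flip2_xt10]; exact flip_stable y _ hv
  let S : AddSubgroup F :=
    { carrier := {t | (xt 0 1 (c * t) : SLn 2 F) ∈ K}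
      add_mem' := fun {x z} hx hz => by
        show _ ∈ K
        rw [mul_add, An.xt_add (by decide)]; exact K.mul_mem hx hz
      zero_mem' := by show _ ∈ K; rw [mul_zero, An.xt_zero]; exact K.one_mem
      neg_mem' := fun {x} hx => by
        show _ ∈ K; rw [mul_neg, ← An.xt_inv (by decide)]; exact K.inv_mem hx }
  intro t
  have h1 := all_of_stable hx S (by show _ ∈ K; rw [mul_one]; exact hu) (fun s hs => by
    show _ ∈ K
    have e : (xt 0 1 (c * (g ^ 2 * s)) : SLn 2 F) = hSL gu * xt 0 1 (c * s) * (hSL gu)⁻¹ := by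
      rw [eq_mul_inv_iff_mul_eq]
      refine Subtype.ext ?_
      show (xt 0 1 (c * (g ^ 2 * s)) : SLn 2 F).1 * (hSL gu).1 = (hSL gu).1 * (xt 0 1 (c * s) : SLn 2 F).1
      rw [xt_coe (by decide), xt_coe (by decide), hSL_val]
      ext i j
      fin_cases i <;> fin_cases j <;>
        simp [transvection, Matrix.mul_apply, Fin.sum_univ_two, gu] <;> field_simp <;> ring
    rw [e]
    exact K.mul_mem (K.mul_mem hh hs) (K.inv_mem hh)) (c⁻¹ * t)
  have h2 : (xt 0 1 (c * (c⁻¹ * t)) : SLn 2 F) ∈ K := h1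
  rwa [mul_inv_cancel_left₀ hc0] at h2

end CfsgLib.SLShort
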