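import Cfsg.Agent.SLShort.UpTo
import Cfsg.Agent.SLShort.Block
import Cfsg.Agent.BPres.SLnPres

/-!
`SL n` from `SL 3` and an alternating group, with five relations between them.
-/

set_option autoImplicit false
set_option linter.style.haveILetI false
set_option linter.unusedSectionVars false

namespace CfsgLib.SLShort

open Equiv Matrix CfsgLib.BPres
open CfsgLib.An (SLn xt xt_coe xt_eq emb emb_xt)
open CfsgLib.SL3Pres (emb3 emb3_val)
open CfsgLib.SL2Pres (hSL)

universe v

variable {F : Type v} [Field F]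

theorem emb3_xt01 (t : F) : emb3 (xt 0 1 t : SLn 2 F) = (xt 0 1 t : SLn 3 F) := by
  refine Subtype.ext ?_
  rw [emb3_val, xt_coe (by decide), xt_coe (by decide)]
  ext i j; fin_cases i <;> fin_cases j <;> simp [transvection]

theorem emb3_xt10 (t : F) : emb3 (xt 1 0 t : SLn 2 F) = (xt 1 0 t : SLn 3 F) := by
  refine Subtype.ext ?_
  rw [emb3_val, xt_coe (by decide), xt_coe (by decide)]
  ext i j; fin_cases i <;> fin_cases j <;> simp [transvection]

theorem c3_eq {n : ℕ} (hn : 3 ≤ n) : altEmb ⟨first hn, first_injective hn⟩ c012 = c3 n hn :=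
  altEmb_cyc ⟨first hn, first_injective hn⟩ (show (0 : Fin 3) ≠ 1 by decide) (by decide)

/-- Commutation spreads from generators. -/
theorem commute_gen {H G : Type*} [Group H] [Group G] (f g : H →* G) {S : Set H}
    (hS : Subgroup.closure S = ⊤) (h : ∀ a ∈ S, ∀ b ∈ S, Commute (f a) (g b)) (a b : H) :
    Commute (f a) (g b) := by
  have h1 : ∀ b ∈ S, ∀ a, Commute (f a) (g b) := fun b hb a => by
    have ha : a ∈ Subgroup.closure S := by rw [hS]; trivial
    induction ha using Subgroup.closure_induction with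
    | mem x hx => exact h x hx b hb
    | one => rw [map_one]; exact Commute.one_left _
    | mul x y _ _ hx hy => rw [map_mul]; exact hx.mul_left hy
    | inv x _ hx => rw [map_inv]; exact hx.inv_left
  have hb : b ∈ Subgroup.closure S := by rw [hS]; trivial
  induction hb using Subgroup.closure_induction with
  | mem x hx => exact h1 x hx a
  | one => rw [map_one]; exact Commute.one_right _
  | mul x y _ _ hx hy => rw [map_mul]; exact hx.mul_right hy
  | inv x _ hx => rw [map_inv]; exact hx.inv_right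

section perms

variable {n : ℕ} (hn : 4 ≤ n)

theorem dbl_outside (a b c d : Fin 4) (hab : a ≠ b) (hcd : c ≠ d) {i : Fin n}
    (h : ∀ k, first hn k ≠ i) : (dbl hn a b c d hab hcd : Perm (Fin n)) i = i := by
  show Equiv.swap _ _ (Equiv.swap _ _ i) = i
  rw [swap_apply_of_ne_of_ne (h c).symm (h d).symm, swap_apply_of_ne_of_ne (h a).symm (h b).symm]

theorem perm_ext {σ ρ : alternatingGroup (Fin n)}
    (h1 : ∀ k, (σ : Perm (Fin n)) (first hn k) = (ρ : Perm (Fin n)) (first hn k))
    (h2 : ∀ i, (∀ k, first hn k ≠ i) → (σ : Perm (Fin n)) i = (ρ : Perm (Fin n)) i) : σ = ρ := by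
  refine Subtype.ext (Equiv.ext fun i => ?_)
  by_cases h : ∃ k, first hn k = i
  · obtain ⟨k, rfl⟩ := h; exact h1 k
  · exact h2 i (not_exists.1 h)

theorem π4_τ4 : π4 hn * τ4 hn = π4' hn := by
  refine perm_ext hn (fun k => ?_) fun i hi => ?_
  · show (π4 hn : Perm (Fin n)) ((τ4 hn : Perm (Fin n)) _) = _
    simp only [π4, τ4, π4', dbl_apply]
    fin_cases k <;> rfl
  · show (π4 hn : Perm (Fin n)) ((τ4 hn : Perm (Fin n)) _) = _
    simp only [π4, τ4, π4', dbl_outside hn _ _ _ _ _ _ hi]

theorem τ4_π4 : τ4 hn * π4 hn = π4' hn := by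
  refine perm_ext hn (fun k => ?_) fun i hi => ?_
  · show (τ4 hn : Perm (Fin n)) ((π4 hn : Perm (Fin n)) _) = _
    simp only [π4, τ4, π4', dbl_apply]
    fin_cases k <;> rfl
  · show (τ4 hn : Perm (Fin n)) ((π4 hn : Perm (Fin n)) _) = _
    simp only [π4, τ4, π4', dbl_outside hn _ _ _ _ _ _ hi]

theorem τ4_sq : τ4 hn * τ4 hn = 1 := by
  refine perm_ext hn (fun k => ?_) fun i hi => ?_
  · show (τ4 hn : Perm (Fin n)) ((τ4 hn : Perm (Fin n)) _) = _
    simp only [τ4, dbl_apply]
    fin_cases k <;> rfl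
  · show (τ4 hn : Perm (Fin n)) ((τ4 hn : Perm (Fin n)) _) = _
    simp only [τ4, dbl_outside hn _ _ _ _ _ _ hi]
    rfl

theorem τ4_fix (σ : alternatingGroup (Fin n))
    (h : (σ : Perm (Fin n)) (first hn 0) = first hn 0 ∧ (σ : Perm (Fin n)) (first hn 1) = first hn 1) :
    ((τ4 hn * σ * τ4 hn : alternatingGroup (Fin n)) : Perm (Fin n)) (first hn 0) = first hn 0 ∧
      ((τ4 hn * σ * τ4 hn : alternatingGroup (Fin n)) : Perm (Fin n)) (first hn 1) = first hn 1 := by
  have e0 : (τ4 hn : Perm (Fin n)) (first hn 0) = first hn 1 := by rw [τ4, dbl_apply]; rfl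
  have e1 : (τ4 hn : Perm (Fin n)) (first hn 1) = first hn 0 := by rw [τ4, dbl_apply]; rfl
  simp only [Subgroup.coe_mul, Perm.mul_apply, e0, e1, h.1, h.2, and_self]

/-- `(23)(45)` -/
def s6 (h6 : 6 ≤ n) : alternatingGroup (Fin n) :=
  ⟨Equiv.swap (⟨2, by omega⟩ : Fin n) ⟨3, by omega⟩ * Equiv.swap ⟨4, by omega⟩ ⟨5, by omega⟩,
    Perm.mem_alternatingGroup.2 (by
      rw [map_mul, Perm.sign_swap (by simp [Fin.ext_iff]), Perm.sign_swap (by simp [Fin.ext_iff])]
      decide)⟩

theorem s6_first (h6 : 6 ≤ n) (k : Fin 4) :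
    (s6 h6 : Perm (Fin n)) (first hn k) = first hn (![0, 1, 3, 2] k) := by
  show Equiv.swap (⟨2, by omega⟩ : Fin n) ⟨3, by omega⟩
    (Equiv.swap (⟨4, by omega⟩ : Fin n) ⟨5, by omega⟩ _) = _
  fin_cases k <;> simp [first, Equiv.swap_apply_def, Fin.ext_iff]

theorem stab_gens : ∃ SS : List (alternatingGroup (Fin n)),
    SS.length ≤ 2 ∧ (n = 4 → SS.length = 0) ∧ (n = 5 → SS.length ≤ 1) ∧
    (∀ σ ∈ SS, (σ : Perm (Fin n)) (first hn 0) = first hn 0 ∧
      (σ : Perm (Fin n)) (first hn 1) = first hn 1) ∧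
    ∀ σ : alternatingGroup (Fin n), (σ : Perm (Fin n)) (first hn 0) = first hn 0 →
      (σ : Perm (Fin n)) (first hn 1) = first hn 1 → σ ∈ Subgroup.closure {x | x ∈ SS} := by
  classical
  set D : Finset (Fin n) := (Finset.univ.erase (first hn 0)).erase (first hn 1) with hDdef
  have hD : ∀ x ∈ D, x ≠ first hn 0 ∧ x ≠ first hn 1 := fun x hx => by
    simp only [D, Finset.mem_erase] at hx; exact ⟨hx.2.1, hx.1⟩
  have hcard : D.card = n - 2 := by
    rw [hDdef, Finset.card_erase_of_mem (by simp [(first_injective hn).eq_iff]),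
      Finset.card_erase_of_mem (Finset.mem_univ _), Finset.card_univ, Fintype.card_fin]
    omega
  obtain ⟨l, h2, h4, h5, hl⟩ : ∃ l : List (alternatingGroup D), l.length ≤ 2 ∧ (n = 4 → l.length = 0) ∧
      (n = 5 → l.length ≤ 1) ∧ Subgroup.closure {x | x ∈ l} = ⊤ := by
    have hc : n = 4 ∨ n = 5 → 2 * Nat.card (alternatingGroup D) = (n - 2).factorial := fun h => by
      haveI : Nontrivial D := by
        rw [← Fintype.one_lt_card_iff_nontrivial, Fintype.card_coe]; omega
      rw [two_mul_nat_card_alternatingGroup, Nat.card_perm, Nat.card_eq_fintype_card, Fintype.card_coe,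
        hcard]
    rcases (show n = 4 ∨ n = 5 ∨ 6 ≤ n by omega) with h | h | h
    · haveI : Subsingleton (alternatingGroup D) := by
        have := hc (Or.inl h)
        rw [show n - 2 = 2 by omega] at this
        exact (Finite.card_le_one_iff_subsingleton).1 (by rw [show (2 : ℕ).factorial = 2 from rfl] at this; omega)
      exact ⟨[], by simp, fun _ => rfl, fun _ => by simp, Subsingleton.elim _ _⟩
    · haveI := Fact.mk Nat.prime_three
      have h3 : Nat.card (alternatingGroup D) = 3 := by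
        have := hc (Or.inr h)
        rw [show n - 2 = 3 by omega] at this
        rw [show (3 : ℕ).factorial = 6 from rfl] at this; omega
      haveI := isCyclic_of_prime_card h3
      obtain ⟨z, hz⟩ := IsCyclic.exists_generator (α := alternatingGroup D)
      refine ⟨[z], by simp, fun e => absurd e (by omega), fun _ => by simp, ?_⟩
      rw [eq_top_iff]
      intro x _
      simp only [List.mem_singleton, Set.ofPred_eq_eq_singleton, ← Subgroup.zpowers_eq_closure]
      exact hz x
    · obtain ⟨S, hS, hgen⟩ := exists_gens D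
      refine ⟨S.toList, by simpa using hS, fun e => absurd e (by omega), fun e => absurd e (by omega), ?_⟩
      simpa using hgen
  refine ⟨l.map (altEmb (valEmb D)), by simpa using h2, fun e => by simpa using h4 e,
    fun e => by simpa using h5 e, fun σ hσ => ?_, fun σ s0 s1 => ?_⟩
  · obtain ⟨τ, -, rfl⟩ := List.mem_map.1 hσ
    exact ⟨altEmb_apply_outside _ _ fun ⟨z, hz⟩ => (hD _ z.2).1 hz,
      altEmb_apply_outside _ _ fun ⟨z, hz⟩ => (hD _ z.2).2 hz⟩
  · obtain ⟨τ, rfl⟩ := exists_preimage D σ fun x hx => by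
      by_cases h0 : x = first hn 0
      · subst h0; exact s0
      by_cases h1 : x = first hn 1
      · subst h1; exact s1
      exact absurd (by simp [D, h0, h1]) hx
    have hτ : τ ∈ Subgroup.closure {x | x ∈ l} := by rw [hl]; trivial
    have h := Subgroup.mem_map_of_mem (altEmb (valEmb D)) hτ
    rw [MonoidHom.map_closure] at h
    refine Subgroup.closure_mono ?_ h
    rintro _ ⟨x, hx, rfl⟩
    exact List.mem_map.2 ⟨x, hx, rfl⟩

end perms

variable [Fintype F]

theorem hasPresN_SL3 : HasPresN (SLn 3 F) 4 14 := by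
  classical
  obtain ⟨p, hcp⟩ := CharP.exists F
  haveI := hcp
  haveI : Fact p.Prime := ⟨CharP.char_is_prime F p⟩
  letI := ZMod.algebra F p
  obtain ⟨rels, hr, ⟨e⟩⟩ := SL3Pres.short_presentation (F := F) p
  exact ⟨rels.toList, _, by rwa [Finset.length_toList], IsPres.of_equiv e⟩

/-- The presentation: `SL 3`, the alternating group and the relations between. -/
theorem hasPresN_glue {n : ℕ} (hn : 4 ≤ n) {r : ℕ} (hA : PresUpTo (c3 n (by omega)) r) (two : Bool)
    (htwo : two = false → 6 ≤ n) {s : ℕ} (hs : 2 ≤ s ∨ (n = 5 ∧ 1 ≤ s) ∨ n = 4) :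
    HasPresN (SLn n F) 6 (14 + r + 2 + s + if two then 2 else 1) := by
  classical
  obtain ⟨p, hcp⟩ := CharP.exists F
  haveI := hcp
  haveI : Fact p.Prime := ⟨CharP.char_is_prime F p⟩
  letI := ZMod.algebra F p
  obtain ⟨m, -, hm⟩ := FiniteField.card F p
  obtain ⟨g0, hg0, hg, -⟩ := SL2Pres.exists_generator (F := F)
  set g : Fˣ := Units.mk0 g0 hg0
  have hx : Algebra.adjoin (ZMod p) {(g : F) ^ 2} = ⊤ := SL2Pres.adjoin_sq hm hg
  obtain ⟨y, hy⟩ := exists_flip_gen (F := F)
  obtain ⟨SS, hSS2, hSS4, hSS5, hSSfix, hSSgen⟩ := stab_gens hn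
  obtain ⟨R1, f1, hR1, P1⟩ := hasPresN_SL3 (F := F)
  obtain ⟨R2, f2, wc, hR2, hwc, P2⟩ := hA
  have hn3 : 3 ≤ n := by omega
  choose W1 hW1 using exists_word P1.gen
  choose W2 hW2 using exists_word P2.gen
  let L : SLn 3 F → FreeGroup (Fin 4 ⊕ Fin 2) := fun x => FreeGroup.map Sum.inl (W1 x)
  let M : alternatingGroup (Fin n) → FreeGroup (Fin 4 ⊕ Fin 2) := fun σ => FreeGroup.map Sum.inr (W2 σ)
  let y3 : SLn 3 F := emb3 y
  let y3' : SLn 3 F := emb3 (flip2 y)
  let cjw : alternatingGroup (Fin n) → SLn 3 F → FreeGroup (Fin 4 ⊕ Fin 2) :=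
    fun σ x => M σ * L x * (M σ)⁻¹
  let comm : FreeGroup (Fin 4 ⊕ Fin 2) → FreeGroup (Fin 4 ⊕ Fin 2) → FreeGroup (Fin 4 ⊕ Fin 2) :=
    fun u v => u * v * (v * u)⁻¹
  let Rrot := FreeGroup.map Sum.inr wc * (L (PM F 3 c012))⁻¹
  let Rflip := cjw (τ4 hn) y3 * (L y3')⁻¹
  let R0 : List (FreeGroup (Fin 4 ⊕ Fin 2)) :=
    Rrot :: Rflip :: comm (L y3) (cjw (π4 hn) y3) ::
      ((if two then [comm (L y3') (cjw (π4 hn) y3)] else []) ++ SS.map fun σ => comm (M σ) (L y3))
  let R := R1.map (FreeGroup.map Sum.inl) ++ R2.map (FreeGroup.map Sum.inr) ++ R0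
  let E := emb (F := F) (first hn3) (first_injective hn3)
  let E2 : SLn 2 F →* SLn n F := E.comp emb3
  let f : Fin 4 ⊕ Fin 2 → SLn n F := Sum.elim (fun i => E (f1 i)) (fun i => PM F n (f2 i))
  have hfL : ∀ x, FreeGroup.lift f (L x) = E x := fun x => by
    rw [lift_map, ← hW1 x, lift_comp, hW1]; rfl
  have hfM : ∀ σ, FreeGroup.lift f (M σ) = PM F n σ := fun σ => by
    rw [lift_map, ← hW2 σ, lift_comp, hW2]; rfl
  have hE01 : ∀ t, E2 (xt 0 1 t) = xt (first hn 0) (first hn 1) t := fun t => by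
    show E (emb3 _) = _
    rw [emb3_xt01, emb_xt _ _ (by decide)]; rfl
  have hE10 : ∀ t, E2 (xt 1 0 t) = xt (first hn 1) (first hn 0) t := fun t => by
    show E (emb3 _) = _
    rw [emb3_xt10, emb_xt _ _ (by decide)]; rfl
  have hne : first hn 0 ≠ first hn 1 := (first_injective hn).ne (by decide)
  have hflip : ∀ x, PM F n (τ4 hn) * E2 x * (PM F n (τ4 hn))⁻¹ = E2 (flip2 x) := by
    intro x
    refine DFunLike.congr_fun (f := (MulAut.conj (PM F n (τ4 hn))).toMonoidHom.comp E2)
      (g := E2.comp flip2) (hom_ext_xt le_rfl fun i j hij t => ?_) x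
    have e0 : (τ4 hn : Perm (Fin n)) (first hn 0) = first hn 1 := by rw [τ4, dbl_apply]; rfl
    have e1 : (τ4 hn : Perm (Fin n)) (first hn 1) = first hn 0 := by rw [τ4, dbl_apply]; rfl
    fin_cases i <;> fin_cases j <;> try exact absurd rfl hij
    · show _ * E2 (xt 0 1 t) * _ = E2 (flip2 (xt 0 1 t))
      rw [flip2_xt01, hE01, hE10, PM_conj _ hne, e0, e1]
    · show _ * E2 (xt 1 0 t) * _ = E2 (flip2 (xt 1 0 t))
      rw [flip2_xt10, hE01, hE10, PM_conj _ hne.symm, e0, e1]
  have hfix : ∀ σ : alternatingGroup (Fin n), (σ : Perm (Fin n)) (first hn 0) = first hn 0 →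
      (σ : Perm (Fin n)) (first hn 1) = first hn 1 → ∀ x, Commute (PM F n σ) (E2 x) := by
    intro σ s0 s1 x
    rw [commute_iff_eq, ← mul_inv_eq_iff_eq_mul]
    refine DFunLike.congr_fun (f := (MulAut.conj (PM F n σ)).toMonoidHom.comp E2)
      (g := E2) (hom_ext_xt le_rfl fun i j hij t => ?_) x
    fin_cases i <;> fin_cases j <;> try exact absurd rfl hij
    · show _ * E2 (xt 0 1 t) * _ = E2 (xt 0 1 t)
      rw [hE01, PM_conj _ hne, s0, s1]
    · show _ * E2 (xt 1 0 t) * _ = E2 (xt 1 0 t)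
      rw [hE10, PM_conj _ hne.symm, s0, s1]
  have hfar : ∀ a b, Commute (E2 a) (PM F n (π4 hn) * E2 b * (PM F n (π4 hn))⁻¹) := by
    intro a b
    have hS : Subgroup.closure {x : SLn 2 F | ∃ t, x = xt 0 1 t ∨ x = xt 1 0 t} = ⊤ := by
      rw [eq_top_iff]
      rintro A -
      refine xt_induction (n := 2) le_rfl (fun A => A ∈ Subgroup.closure _) (fun i j hij t => ?_)
        (fun _ _ => Subgroup.mul_mem _) A
      refine Subgroup.subset_closure ⟨t, ?_⟩
      fin_cases i <;> fin_cases j <;> first | exact absurd rfl hij | exact Or.inl rfl | exact Or.inr rfl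
    refine commute_gen E2 ((MulAut.conj (PM F n (π4 hn))).toMonoidHom.comp E2) hS ?_ a b
    have h4 : ∀ c d : Fin 4, c ≠ d → first hn c ≠ first hn d := fun c d h => (first_injective hn).ne h
    have e0 : (π4 hn : Perm (Fin n)) (first hn 0) = first hn 2 := by rw [π4, dbl_apply]; rfl
    have e1 : (π4 hn : Perm (Fin n)) (first hn 1) = first hn 3 := by rw [π4, dbl_apply]; rfl
    have key : ∀ {i j k l : Fin n}, i ≠ j → k ≠ l → i ≠ l → j ≠ k → ∀ u w : F,
        Commute (xt i j u) (xt k l w) := by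
      intro i j k l h1 h2 h3 h4 u w
      rw [commute_iff_eq, ← mul_inv_eq_iff_eq_mul, ← mul_inv_eq_one, xt_eq h1, xt_eq h2]
      exact StPres.transv_far h1 h2 h3 h4 u w
    rintro _ ⟨u, rfl | rfl⟩ _ ⟨w, rfl | rfl⟩
    · show Commute (E2 _) (_ * E2 _ * _)
      rw [hE01, hE01, PM_conj _ hne, e0, e1]
      exact key hne (h4 2 3 (by decide)) (h4 0 3 (by decide)) (h4 1 2 (by decide)) u w
    · show Commute (E2 _) (_ * E2 _ * _)
      rw [hE01, hE10, PM_conj _ hne.symm, e0, e1]
      exact key hne (h4 3 2 (by decide)) (h4 0 2 (by decide)) (h4 1 3 (by decide)) u w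
    · show Commute (E2 _) (_ * E2 _ * _)
      rw [hE10, hE01, PM_conj _ hne, e0, e1]
      exact key hne.symm (h4 2 3 (by decide)) (h4 1 3 (by decide)) (h4 0 2 (by decide)) u w
    · show Commute (E2 _) (_ * E2 _ * _)
      rw [hE10, hE10, PM_conj _ hne.symm, e0, e1]
      exact key hne.symm (h4 3 2 (by decide)) (h4 1 2 (by decide)) (h4 0 3 (by decide)) u w
  have hgen : Subgroup.closure (Set.range f) = ⊤ := by
    rw [← FreeGroup.range_lift_eq_closure, eq_top_iff]
    rintro A -
    refine xt_induction (by omega) (fun A => A ∈ (FreeGroup.lift f).range) (fun i j h t => ?_)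
      (fun a b => Subgroup.mul_mem _) A
    obtain ⟨σ, s0, s1⟩ := exists_even_pair hn h
    refine ⟨M σ * L (xt 0 1 t) * (M σ)⁻¹, ?_⟩
    rw [map_mul, map_mul, map_inv, hfM, hfL, emb_xt _ _ (by decide),
      PM_conj σ ((first_injective hn3).ne (by decide))]
    rw [show (σ : Perm (Fin n)) (first hn3 0) = i from s0, show (σ : Perm (Fin n)) (first hn3 1) = j from s1]
  refine hasPresN_of (R := R) (f := f) ⟨fun r hr => ?_, hgen, fun G _ f' hf' => ?_⟩ (by simp) ?_
  · simp only [R, List.mem_append, List.mem_map] at hr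
    rcases hr with (⟨s, hs, rfl⟩ | ⟨s, hs, rfl⟩) | hr
    · rw [lift_map]
      exact (lift_comp E f1 s).symm.trans (by rw [P1.rel s hs, map_one])
    · rw [lift_map]
      exact (lift_comp (PM F n) f2 s).symm.trans (by
        rw [P2.rel s (List.mem_append.2 (Or.inl hs)), map_one])
    · replace hr : r = Rrot ∨ r = Rflip ∨ r = comm (L y3) (cjw (π4 hn) y3) ∨
          r = comm (L y3') (cjw (π4 hn) y3) ∨ ∃ σ ∈ SS, r = comm (M σ) (L y3) := by
        simp only [R0, List.mem_cons, List.mem_append, List.mem_map] at hr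
        rcases hr with h | h | h | h | ⟨σ, hσ, rfl⟩
        · exact Or.inl h
        · exact Or.inr (Or.inl h)
        · exact Or.inr (Or.inr (Or.inl h))
        · cases two <;> simp only [if_true, Bool.false_eq_true, if_false, List.not_mem_nil,
            List.mem_singleton] at h
          exact Or.inr (Or.inr (Or.inr (Or.inl h)))
        · exact Or.inr (Or.inr (Or.inr (Or.inr ⟨σ, hσ, rfl⟩)))
      rcases hr with rfl | rfl | rfl | rfl | ⟨σ, hσ, rfl⟩ <;>
        simp only [Rrot, Rflip, comm, cjw, map_mul, map_inv, hfL, hfM, mul_inv_eq_one]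
      · rw [lift_map]
        refine (lift_comp (PM F n) f2 wc).symm.trans ?_
        rw [hwc, ← c3_eq, emb_PM]
      · exact hflip y
      · exact (hfar y y).eq
      · exact (hfar (flip2 y) y).eq
      · exact (hfix σ (hSSfix σ hσ).1 (hSSfix σ hσ).2 y).eq
  swap
  · simp only [R, R0, List.length_append, List.length_map, List.length_cons]
    cases two <;> simp <;> rcases hs with h | ⟨h, h'⟩ | h <;>
      first
        | omega
        | (have := hSS5 h; omega)
        | (have := hSS4 h; omega)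
  -- the maps into `G`
  obtain ⟨ψ, hψ⟩ := P1.univ G (fun i => f' (Sum.inl i)) fun s hs => by
    rw [← lift_map]
    exact hf' _ (List.mem_append.2 (Or.inl (List.mem_append.2 (Or.inl (List.mem_map.2 ⟨s, hs, rfl⟩)))))
  have hL : ∀ x, FreeGroup.lift f' (L x) = ψ x := fun x => by
    rw [lift_map, ← hW1 x, lift_comp, hW1, show (fun i => ψ (f1 i)) = _ from funext hψ]
  have h0 : ∀ r ∈ R0, FreeGroup.lift f' r = 1 := fun r hr => hf' r (List.mem_append.2 (Or.inr hr))
  have hrot := h0 Rrot (by simp [R0])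
  simp only [Rrot, map_mul, map_inv, hL, mul_inv_eq_one, lift_map] at hrot
  obtain ⟨A, hA⟩ := P2.univ G (fun i => f' (Sum.inr i)) fun s hs => by
    rcases List.mem_append.1 hs with hs | hs
    · rw [← lift_map]
      exact hf' _ (List.mem_append.2 (Or.inl (List.mem_append.2 (Or.inr (List.mem_map.2 ⟨s, hs, rfl⟩)))))
    · obtain rfl := List.mem_singleton.1 hs
      rw [map_pow, hrot, ← map_pow, ← map_pow,
        show c012 ^ 3 = 1 from cyc_cube (by decide) (by decide) (by decide), map_one, map_one]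
  have hM : ∀ σ, FreeGroup.lift f' (M σ) = A σ := fun σ => by
    rw [lift_map, ← hW2 σ, lift_comp, hW2, show (fun i => A (f2 i)) = _ from funext hA]
  have hrot' : A (c3 n hn3) = ψ (PM F 3 c012) := by
    rw [← hrot, ← hwc, lift_comp, show (fun i => A (f2 i)) = _ from funext hA]
  let B : SLn 2 F →* G := ψ.comp emb3
  set T := A (τ4 hn) with hT
  set P := A (π4 hn) with hP
  have hflipy : T * B y * T⁻¹ = B (flip2 y) := by
    have := h0 Rflip (by simp [R0])
    simp only [Rflip, cjw, map_mul, map_inv, hL, hM, mul_inv_eq_one] at this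
    exact this
  have hTT : T * T = 1 := by rw [hT, ← map_mul, τ4_sq, map_one]
  have hTinv : T⁻¹ = T := inv_eq_of_mul_eq_one_right hTT
  have hflipy' : T * B (flip2 y) * T⁻¹ = B y := by
    rw [← hflipy, hTinv, show T * (T * B y * T) * T = (T * T) * B y * (T * T) by group, hTT, one_mul,
      mul_one]
  have hflipG : ∀ x, T * B x * T⁻¹ = B (flip2 x) := by
    refine fun x => DFunLike.congr_fun (f := (MulAut.conj T).toMonoidHom.comp B) (g := B.comp flip2)
      (MonoidHom.eq_of_eqOn_dense hy ?_) x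
    rintro _ (rfl | rfl)
    · exact hflipy
    · show _ = B (flip2 (flip2 y))
      rw [flip2_flip2]; exact hflipy'
  have hfixy : ∀ σ : alternatingGroup (Fin n), (σ : Perm (Fin n)) (first hn 0) = first hn 0 →
      (σ : Perm (Fin n)) (first hn 1) = first hn 1 → Commute (A σ) (B y) := by
    intro σ s0 s1
    have hσ := hSSgen σ s0 s1
    clear s0 s1
    induction hσ using Subgroup.closure_induction with
    | mem t ht =>
      have := h0 (comm (M t) (L y3)) (by
        simp only [R0, List.mem_cons, List.mem_append, List.mem_map]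
        exact Or.inr (Or.inr (Or.inr (Or.inr ⟨t, ht, rfl⟩))))
      simp only [comm, map_mul, map_inv, hL, hM, mul_inv_eq_one] at this
      exact this
    | one => rw [map_one]; exact Commute.one_left _
    | mul x z _ _ hx hz => rw [map_mul]; exact hx.mul_left hz
    | inv x _ hx => rw [map_inv]; exact hx.inv_left
  have hfixG : ∀ σ : alternatingGroup (Fin n), (σ : Perm (Fin n)) (first hn 0) = first hn 0 →
      (σ : Perm (Fin n)) (first hn 1) = first hn 1 → ∀ x, Commute (A σ) (B x) := by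
    intro σ s0 s1 x
    obtain ⟨t0, t1⟩ := τ4_fix hn σ ⟨s0, s1⟩
    have h2 : Commute (A σ) (B (flip2 y)) := by
      have h := (hfixy _ t0 t1).map (MulAut.conj T).toMonoidHom
      rw [MulEquiv.coe_toMonoidHom, MulAut.conj_apply, MulAut.conj_apply, hflipy, map_mul, map_mul,
        ← hT, hTinv, show T * (T * A σ * T) * T = (T * T) * A σ * (T * T) by group, hTT, one_mul,
        mul_one] at h
      exact h
    have hS : x ∈ Subgroup.closure ({y, flip2 y} : Set (SLn 2 F)) := by rw [hy]; trivial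
    induction hS using Subgroup.closure_induction with
    | mem t ht => rcases ht with rfl | rfl; exacts [hfixy σ s0 s1, h2]
    | one => rw [map_one]; exact Commute.one_right _
    | mul a b _ _ ha hb => rw [map_mul]; exact ha.mul_right hb
    | inv a _ ha => rw [map_inv]; exact ha.inv_right
  have hTP : T * P = P * T := by rw [hT, hP, ← map_mul, ← map_mul, τ4_π4, π4_τ4]
  have hC1 : Commute (B y) (P * B y * P⁻¹) := by
    have := h0 (comm (L y3) (cjw (π4 hn) y3)) (by simp [R0])
    simp only [comm, cjw, map_mul, map_inv, hL, hM, mul_inv_eq_one] at this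
    exact this
  have hτC : ∀ a b, Commute (B a) (P * B b * P⁻¹) → Commute (B (flip2 a)) (P * B (flip2 b) * P⁻¹) := by
    intro a b h
    have h' := h.map (MulAut.conj T).toMonoidHom
    rw [MulEquiv.coe_toMonoidHom, MulAut.conj_apply, MulAut.conj_apply, hflipG,
      show T * (P * B b * P⁻¹) * T⁻¹ = (T * P) * B b * (T * P)⁻¹ by group, hTP,
      show P * T * B b * (P * T)⁻¹ = P * (T * B b * T⁻¹) * P⁻¹ by group, hflipG] at h'
    exact h'
  have hC2 : Commute (B (flip2 y)) (P * B y * P⁻¹) := by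
    rcases eq_or_ne two true with htt | htt
    · have := h0 (comm (L y3') (cjw (π4 hn) y3)) (by simp [R0, htt])
      simp only [comm, cjw, map_mul, map_inv, hL, hM, mul_inv_eq_one] at this
      exact this
    · have h6 := htwo (by simpa using htt)
      set κ := τ4 hn * s6 h6 with hκ
      have hsix : ∀ x, Commute (A (s6 h6)) (B x) :=
        hfixG _ (by rw [s6_first hn h6]; rfl) (by rw [s6_first hn h6]; rfl)
      have hflipκ : ∀ x, A κ * B x * (A κ)⁻¹ = B (flip2 x) := fun x => by
        rw [hκ, map_mul, ← hT, ← hflipG,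
          show T * A (s6 h6) * B x * (T * A (s6 h6))⁻¹ = T * (A (s6 h6) * B x * (A (s6 h6))⁻¹) * T⁻¹
            by group, (hsix x).eq, mul_inv_cancel_right]
      have hk : ∀ a : Fin 4, (a = 0 ∨ a = 1) →
          (((π4 hn)⁻¹ * κ * π4 hn : alternatingGroup (Fin n)) : Perm (Fin n)) (first hn a) = first hn a := by
        intro a ha
        show (π4 hn : Perm (Fin n))⁻¹ ((τ4 hn : Perm (Fin n)) ((s6 h6 : Perm (Fin n))
          ((π4 hn : Perm (Fin n)) (first hn a)))) = first hn a
        rw [Perm.inv_def, Equiv.symm_apply_eq]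
        simp only [π4, τ4, dbl_apply, s6_first hn h6]
        rcases ha with rfl | rfl <;> rfl
      have hc := hfixG _ (hk 0 (Or.inl rfl)) (hk 1 (Or.inr rfl)) y
      have h' := hC1.map (MulAut.conj (A κ)).toMonoidHom
      rw [MulEquiv.coe_toMonoidHom, MulAut.conj_apply, MulAut.conj_apply, hflipκ,
        show A κ * (P * B y * P⁻¹) * (A κ)⁻¹ =
          P * ((A ((π4 hn)⁻¹ * κ * π4 hn)) * B y * (A ((π4 hn)⁻¹ * κ * π4 hn))⁻¹) * P⁻¹ by
            simp only [map_mul, map_inv, ← hP]; group, hc.eq, mul_inv_cancel_right] at h'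
      exact h'
  have hC : ∀ a b, Commute (B a) (P * B b * P⁻¹) := by
    refine commute_gen B ((MulAut.conj P).toMonoidHom.comp B) hy ?_
    rintro _ (rfl | rfl) _ (rfl | rfl)
    · exact hC1
    · have := hτC _ _ hC2
      rwa [flip2_flip2] at this
    · exact hC2
    · exact hτC _ _ hC1
  have hC' : ∀ a b, Commute (A (π4' hn) * B b * (A (π4' hn))⁻¹) (B a) := fun a b => by
    rw [← π4_τ4, map_mul, ← hT, ← hP,
      show P * T * B b * (P * T)⁻¹ = P * (T * B b * T⁻¹) * P⁻¹ by group, hflipG]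
    exact (hC _ _).symm
  have hB01 : ψ (xt 0 1 1) = B (xt 0 1 1) := by show _ = ψ (emb3 _); rw [emb3_xt01]
  have hBh : ψ (h3 g) = B (hSL g) := rfl
  let Fd : Fit F g hn G :=
    { ψ := ψ
      A := A
      rot := (congrArg A (c3_eq hn3)).trans hrot'
      fix := fun σ s0 s1 => by
        rw [hB01, hBh]; exact ⟨hfixG σ s0 s1 _, hfixG σ s0 s1 _⟩
      flip_u := by
        rw [hB01, ← hT, hflipG, flip2_xt01]; show ψ (emb3 _) = _; rw [emb3_xt10]
      flip_h := by rw [hBh, ← hT, hflipG, flip2_h, map_inv]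
      far_u := by rw [hB01, ← hP]; exact (hC _ _).symm
      far_h := by rw [hB01, hBh, ← hP]; exact (hC _ _).symm
      far_u' := by rw [hB01]; exact hC' _ _
      far_h' := by rw [hB01, hBh]; exact hC' _ _ }
  obtain ⟨φ, hφ1, hφ2⟩ := Fd.exists_map hx
  refine ⟨φ, fun i => ?_⟩
  rcases i with i | i
  · exact (DFunLike.congr_fun hφ1 (f1 i)).trans (hψ i)
  · exact (DFunLike.congr_fun hφ2 (f2 i)).trans (hA i)

/-- Six generators, twenty-four relations. -/
theorem hasPresN_SL {n : ℕ} (hn : 4 ≤ n) : HasPresN (SLn n F) 6 24 := by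
  rcases (show n = 4 ∨ n = 5 ∨ 6 ≤ n by omega) with rfl | rfl | h
  · exact (hasPresN_glue hn presUpTo_four true (fun h => absurd h (by decide)) (s := 0)
      (Or.inr (Or.inr rfl))).mono (by norm_num)
  · exact (hasPresN_glue hn presUpTo_five true (fun h => absurd h (by decide)) (s := 1)
      (Or.inr (Or.inl ⟨rfl, le_rfl⟩))).mono (by norm_num)
  · exact (hasPresN_glue hn (presUpTo_any hn) false (fun _ => h) (s := 2)
      (Or.inl le_rfl)).mono (by norm_num)

theorem hasPresN_SL4 : HasPresN (SLn 4 F) 6 21 :=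
  (hasPresN_glue le_rfl presUpTo_four true (fun h => absurd h (by decide)) (s := 0)
    (Or.inr (Or.inr rfl))).mono (by norm_num)

theorem hasPresN_SL5 : HasPresN (SLn 5 F) 6 22 :=
  (hasPresN_glue (by norm_num) presUpTo_five true (fun h => absurd h (by decide)) (s := 1)
    (Or.inr (Or.inl ⟨rfl, le_rfl⟩))).mono (by norm_num)

end CfsgLib.SLShort
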