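import Cfsg.Agent.AltPres.Top
import Mathlib.GroupTheory.NoncommCoprod

/-!
Presentations of alternating groups with the cube of a three-cycle given for free.
-/

set_option autoImplicit false
set_option linter.style.haveILetI false
set_option linter.unusedSectionVars false

namespace CfsgLib.SLShort

open Equiv Equiv.Perm CfsgLib.BPres CfsgLib.AltPres

/-- `A` is presented by `r` relations and the cube of a word for `c`. -/
def PresUpTo {A : Type} [Group A] (c : A) (r : ℕ) : Prop :=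
  ∃ (R : List (FreeGroup (Fin 2))) (f : Fin 2 → A) (wc : FreeGroup (Fin 2)),
    R.length ≤ r ∧ FreeGroup.lift f wc = c ∧ IsPres (R ++ [wc ^ 3]) f

theorem PresUpTo.mono {A : Type} [Group A] {c : A} {r s : ℕ} (h : PresUpTo c r) (hrs : r ≤ s) :
    PresUpTo c s := by
  obtain ⟨R, f, wc, hR, hw, hP⟩ := h
  exact ⟨R, f, wc, hR.trans hrs, hw, hP⟩

theorem PresUpTo.congr {A B : Type} [Group A] [Group B] {c : A} {r : ℕ} (h : PresUpTo c r)
    (e : A ≃* B) : PresUpTo (e c) r := by
  obtain ⟨R, f, wc, hR, hw, hP⟩ := h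
  exact ⟨R, _, wc, hR, by rw [← hw]; exact (lift_comp e.toMonoidHom f wc).symm, hP.map e⟩

/-- A cyclic central factor of order prime to three dies with the cube. -/
theorem presUpTo_of_prod {A : Type} [Group A] {L r : ℕ} (hL : ¬ 3 ∣ L)
    (h : HasPresN (A × Multiplicative (ZMod L)) 2 r) (c : A) (hc : c ^ 3 = 1) : PresUpTo c r := by
  obtain ⟨R, f, hR, hP⟩ := h
  obtain ⟨wc, hwc⟩ := exists_word hP.gen (c, Multiplicative.ofAdd 1)
  let π : A × Multiplicative (ZMod L) →* A := MonoidHom.fst _ _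
  have hwcA : FreeGroup.lift (fun i => π (f i)) wc = c := by rw [← lift_comp, hwc]; rfl
  refine ⟨R, fun i => π (f i), wc, hR, hwcA, fun s hs => ?_, ?_, fun G _ f' hf' => ?_⟩
  · rcases List.mem_append.1 hs with hs | hs
    · rw [← lift_comp, hP.rel s hs, map_one]
    · obtain rfl := List.mem_singleton.1 hs
      rw [map_pow, hwcA, hc]
  · rw [show (Set.range fun i => π (f i)) = π '' Set.range f by rw [← Set.range_comp]; rfl,
      ← MonoidHom.map_closure, hP.gen, ← MonoidHom.range_eq_map, MonoidHom.range_eq_top]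
    exact fun a => ⟨(a, 1), rfl⟩
  · obtain ⟨φ, hφ⟩ := hP.univ G f' fun s hs => hf' s (List.mem_append.2 (Or.inl hs))
    set z : Multiplicative (ZMod L) := Multiplicative.ofAdd 1 with hz
    have hzL : z ^ L = 1 := by
      rw [hz, ← ofAdd_nsmul, nsmul_one, ZMod.natCast_self, ofAdd_zero]
    have h3 : φ (c, z) ^ 3 = 1 := by
      rw [← hwc, lift_comp, funext hφ, ← map_pow]
      exact hf' _ (List.mem_append.2 (Or.inr (List.mem_singleton.2 rfl)))
    have hz3 : φ ((1 : A), z) ^ 3 = 1 := by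
      rw [← h3, ← map_pow, ← map_pow]
      congr 1
      exact Prod.ext (by simp [hc]) rfl
    have hzL' : φ ((1 : A), z) ^ L = 1 := by
      rw [← map_pow, show ((1 : A), z) ^ L = 1 from Prod.ext (by simp) hzL, map_one]
    have hz1 : φ ((1 : A), z) = 1 := by
      rw [← pow_one (φ (1, z)), ← show Nat.gcd 3 L = 1 from Nat.prime_three.coprime_iff_not_dvd.2 hL]
      exact pow_gcd_eq_one.2 ⟨hz3, hzL'⟩
    refine ⟨φ.comp (MonoidHom.inl _ _), fun i => ?_⟩
    rw [MonoidHom.comp_apply, ← hφ i]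
    obtain ⟨a, k⟩ := f i
    show φ (a, 1) = φ (a, k)
    obtain ⟨j, rfl⟩ : ∃ j : ℤ, z ^ j = k := by
      refine ⟨(Multiplicative.toAdd k).cast, Multiplicative.toAdd.injective ?_⟩
      simp [hz]
    rw [show ((a, z ^ j) : A × Multiplicative (ZMod L)) = (a, 1) * ((1 : A), z) ^ j from
      Prod.ext (by simp) (by simp), map_mul, map_zpow, hz1, one_zpow, mul_one]

/-- The product with the cyclic group of the order of an even permutation. -/
def tgtProd {α : Type} [Fintype α] [DecidableEq α] (d : Perm α) (hd : Perm.sign d = 1) (L : ℕ)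
    (hdL : d ^ L = 1) (hL : ∀ k : ℕ, d ^ k = 1 → L ∣ k) : Tgt α d where
  B := alternatingGroup α × Multiplicative (ZMod L)
  ι := MonoidHom.inl _ _
  dB := (⟨d, mem_alternatingGroup.2 hd⟩, Multiplicative.ofAdd 1)
  q := L
  dq := 1
  dq_val := by simp [hdL]
  dB_q := by
    refine Prod.ext (Subtype.ext ?_) ?_
    · show d ^ L = 1
      exact hdL
    · show (Multiplicative.ofAdd (1 : ZMod L)) ^ L = 1
      rw [← ofAdd_nsmul, nsmul_one, ZMod.natCast_self, ofAdd_zero]
  dB_pow k hk := by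
    refine Prod.ext (Subtype.ext ?_) ?_
    · show d ^ k = 1
      exact hk
    · show (Multiplicative.ofAdd (1 : ZMod L)) ^ k = 1
      rw [← ofAdd_nsmul, nsmul_one, (ZMod.natCast_eq_zero_iff k L).2 (hL k hk), ofAdd_zero]
  conj y := by
    refine Prod.ext ?_ (by simp)
    show (⟨d, _⟩ : alternatingGroup α) * y * (⟨d, _⟩ : alternatingGroup α)⁻¹ = cj d y
    exact Subtype.ext rfl
  gen K h1 h2 := by
    rw [eq_top_iff]
    rintro ⟨y, k⟩ -
    obtain ⟨j, rfl⟩ : ∃ j : ℤ, (Multiplicative.ofAdd (1 : ZMod L)) ^ j = k := by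
      refine ⟨(Multiplicative.toAdd k).cast, Multiplicative.toAdd.injective ?_⟩
      simp
    have h3 := K.mul_mem (h1 (y * ((⟨d, mem_alternatingGroup.2 hd⟩ : alternatingGroup α) ^ j)⁻¹))
      (K.zpow_mem h2 j)
    convert h3 using 1
    exact Prod.ext (by simp) (by simp)
  univ G _ Φ δ hc hq := by
    set d' : alternatingGroup α := ⟨d, mem_alternatingGroup.2 hd⟩
    rw [map_one] at hq
    have hdd : δ * Φ d' * δ⁻¹ = Φ d' := by
      rw [hc]; congr 1; exact Subtype.ext (by simp [cj_val, d'])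
    have hcm : Commute δ (Φ d') := mul_inv_eq_iff_eq_mul.1 hdd
    set lam := (Φ d')⁻¹ * δ with hlam
    have hlamL : lam ^ L = 1 := by
      rw [hlam, hcm.symm.inv_left.mul_pow, hq, mul_one, inv_pow, ← map_pow,
        show d' ^ L = 1 from Subtype.ext hdL, map_one, inv_one]
    have hlamc : ∀ y, Commute lam (Φ y) := fun y => by
      rw [commute_iff_eq, ← mul_inv_eq_iff_eq_mul, hlam]
      have h1 := hc y
      rw [show Φ (cj d y) = Φ d' * Φ y * (Φ d')⁻¹ by
        rw [← map_inv, ← map_mul, ← map_mul]; rfl] at h1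
      calc (Φ d')⁻¹ * δ * Φ y * ((Φ d')⁻¹ * δ)⁻¹ = (Φ d')⁻¹ * (δ * Φ y * δ⁻¹) * Φ d' := by group
        _ = Φ y := by rw [h1]; group
    obtain ⟨μ, hμ⟩ : ∃ μ : Multiplicative (ZMod L) →* G, μ (Multiplicative.ofAdd 1) = lam :=
      ⟨AddMonoidHom.toMultiplicativeLeft (ZMod.lift L
        ⟨zmultiplesHom (Additive G) (Additive.ofMul lam), by
          show ((L : ℤ) • Additive.ofMul lam) = 0
          rw [natCast_zsmul, ← ofMul_pow, hlamL, ofMul_one]⟩), by
        show Additive.toMul (ZMod.lift L _ 1) = lam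
        rw [show (1 : ZMod L) = ((1 : ℤ) : ZMod L) by simp, ZMod.lift_coe]
        simp⟩
    have hμc : ∀ y k, Commute (Φ y) (μ k) := fun y k => by
      obtain ⟨j, rfl⟩ : ∃ j : ℤ, (Multiplicative.ofAdd (1 : ZMod L)) ^ j = k := by
        refine ⟨(Multiplicative.toAdd k).cast, Multiplicative.toAdd.injective ?_⟩
        simp
      rw [map_zpow, hμ]
      exact ((hlamc y).zpow_left j).symm
    refine ⟨MonoidHom.noncommCoprod Φ μ hμc, fun y => by simp, ?_⟩
    show Φ d' * μ (Multiplicative.ofAdd 1) = δ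
    rw [hμ, hlam, mul_inv_cancel_left]

theorem dlt_dvd {p e l : ℕ} [Fact p.Prime] (hl : l + 1 ≤ p) (h : 1 ≤ l + e) {k : ℕ}
    (hk : (dlt (e := e) hl : Perm (Gam p e)) ^ k = 1) : l + e ∣ k := by
  have := dlt_pow_trk (e := e) hl k ⟨0, h⟩
  rw [hk, Perm.one_apply] at this
  have h' := congrArg Fin.val ((trk hl).injective (Sum.inr_injective this))
  simp only [zero_add] at h'
  exact Nat.dvd_of_mod_eq_zero h'.symm

theorem presUpTo_large {n : ℕ} (h7 : 7 ≤ n) (c : alternatingGroup (Fin n)) (hc : c ^ 3 = 1) :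
    PresUpTo c 5 := by
  obtain ⟨p, e, hp, rfl, hpe⟩ := split_large h7
  haveI : Fact p.Prime := ⟨hp⟩
  have key : ∀ l, l + 1 ≤ p → 1 ≤ l → e < l → ¬ 3 ∣ l + e → Odd (l + e) → PresUpTo c 5 := by
    intro l hl hl1 he h3 hodd
    obtain ⟨k, hk⟩ := hodd
    have hd : Perm.sign (dlt hl : Perm (Gam p e)) = 1 := by
      rw [dlt_sign hl (by omega), show l + e - 1 = 2 * k by omega, pow_mul]
      simp
    have h := hasPresN_main' (by omega) hl hl1 he h3
      (tgtProd (dlt hl) hd (l + e) (dlt_pow_card hl) (fun k => dlt_dvd hl (by omega))) false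
      (fun _ => ⟨rfl, rfl⟩)
    exact presUpTo_of_prod h3 (HasPresN.congr (A := alternatingGroup (Gam p e) × _) (h.mono (s := 5) (by simp))
      (MulEquiv.prodCongr (Equiv.altCongrHom (Fintype.equivFinOfCardEq (card_gam p e)))
        (MulEquiv.refl (Multiplicative (ZMod (l + e)))))) c hc
  by_cases h3 : 3 ∣ 2 * e + 1
  · exact key (e + 3) (by omega) (by omega) (by omega) (by omega) ⟨e + 1, by omega⟩
  · exact key (e + 1) (by omega) (by omega) (by omega) (by omega) ⟨e, by omega⟩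

/-- the first three-cycle -/
def c3 (n : ℕ) (hn : 3 ≤ n) : alternatingGroup (Fin n) :=
  cyc ⟨0, by omega⟩ ⟨1, by omega⟩ ⟨2, by omega⟩

theorem presUpTo_small (m : ℕ) (hm : 1 ≤ m) (sw : Bool) (hsw : sw = true → Even m)
    (hs : Perm.sign (smallD m sw) = 1) : PresUpTo (c3 (m + 2) (by omega)) (m / 2 + 2) := by
  obtain ⟨R, f, hR, hf, hP⟩ := isPres_small hm sw hsw (tgtAlt _ hs)
  let x0 : alternatingGroup (Bool ⊕ Fin m) := cyc (Sum.inl false) (Sum.inl true) (Sum.inr ⟨0, hm⟩)
  have h : PresUpTo (A := alternatingGroup (Bool ⊕ Fin m)) x0 (m / 2 + 2) :=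
    ⟨R, f, FreeGroup.of 1, hR, (FreeGroup.lift_apply_of).trans hf, hP⟩
  let eb : Bool ⊕ Fin m ≃ Fin (m + 2) :=
    ((Equiv.sumCongr finTwoEquiv.symm (Equiv.refl _)).trans finSumFinEquiv).trans (finCongr (add_comm 2 m))
  have h' := h.congr (Equiv.altCongrHom eb)
  convert h' using 2
  refine Subtype.ext ?_
  have hval : ((Equiv.altCongrHom eb) x0 : Perm (Fin (m + 2))) = eb.permCongr (x0 : Perm _) := rfl
  have e0 : eb (Sum.inl false) = ⟨0, by omega⟩ := by simp [eb, finTwoEquiv]; rfl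
  have e1 : eb (Sum.inl true) = ⟨1, by omega⟩ := by simp [eb, finTwoEquiv]; rfl
  have e2 : eb (Sum.inr ⟨0, hm⟩) = ⟨2, by omega⟩ := by simp [eb]
  rw [hval]
  show (cyc _ _ _ : alternatingGroup (Fin (m + 2))).1 = eb.permCongr (cyc _ _ _ : alternatingGroup (Bool ⊕ Fin m)).1
  rw [cyc_val (by simp [Fin.ext_iff]) (by simp [Fin.ext_iff]), cyc_val (by simp) (by simp),
    ← e0, ← e1, ← e2]
  refine Equiv.ext fun y => ?_
  obtain ⟨z, rfl⟩ := eb.surjective y
  simp only [Equiv.permCongr_apply, Perm.mul_apply, eb.injective.swap_apply, Equiv.symm_apply_apply]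

theorem c3_cube (n : ℕ) (hn : 3 ≤ n) : c3 n hn ^ 3 = 1 :=
  cyc_cube (by simp [Fin.ext_iff]) (by simp [Fin.ext_iff]) (by simp [Fin.ext_iff])

theorem presUpTo_four : PresUpTo (c3 4 (by norm_num)) 3 :=
  presUpTo_small 2 (by norm_num) true (fun _ => by decide) (by rw [smallD_sign]; decide)

theorem presUpTo_five : PresUpTo (c3 5 (by norm_num)) 3 :=
  presUpTo_small 3 (by norm_num) false (fun h => absurd h (by decide)) (by rw [smallD_sign]; decide)

theorem presUpTo_any {n : ℕ} (hn : 4 ≤ n) : PresUpTo (c3 n (by omega)) 5 := by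
  rcases (show n = 4 ∨ n = 5 ∨ n = 6 ∨ 7 ≤ n by omega) with rfl | rfl | rfl | h7
  · exact presUpTo_four.mono (by norm_num)
  · exact presUpTo_five.mono (by norm_num)
  · exact (presUpTo_small 4 (by norm_num) true (fun _ => by decide)
      (by rw [smallD_sign]; decide)).mono (by norm_num)
  · exact presUpTo_large h7 _ (c3_cube _ _)

end CfsgLib.SLShort
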